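import Mathlib

/-! # The extraspecial group of order `p ^ 3` and exponent `p` in coordinates -/

set_option autoImplicit false

namespace Cfsg.Lib.RV

open Subgroup

/-- Two by two matrices. -/
@[ext] structure M2 (K : Type*) where
  /-- entry -/
  a : K
  /-- entry -/
  b : K
  /-- entry -/
  c : K
  /-- entry -/
  d : K
  deriving DecidableEq

namespace M2
variable {K : Type*} [CommRing K]

instance instMul : Mul (M2 K) := ⟨fun m n =>
  ⟨m.a * n.a + m.b * n.c, m.a * n.b + m.b * n.d, m.c * n.a + m.d * n.c, m.c * n.b + m.d * n.d⟩⟩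
instance instOne : One (M2 K) := ⟨⟨1, 0, 0, 1⟩⟩
@[simp] theorem mul_a (m n : M2 K) : (m * n).a = m.a * n.a + m.b * n.c := rfl
@[simp] theorem mul_b (m n : M2 K) : (m * n).b = m.a * n.b + m.b * n.d := rfl
@[simp] theorem mul_c (m n : M2 K) : (m * n).c = m.c * n.a + m.d * n.c := rfl
@[simp] theorem mul_d (m n : M2 K) : (m * n).d = m.c * n.b + m.d * n.d := rfl
@[simp] theorem one_a : (1 : M2 K).a = 1 := rfl
@[simp] theorem one_b : (1 : M2 K).b = 0 := rfl
@[simp] theorem one_c : (1 : M2 K).c = 0 := rfl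
@[simp] theorem one_d : (1 : M2 K).d = 1 := rfl

instance instMonoid : Monoid (M2 K) where
  mul_assoc x y z := by ext <;> simp <;> ring
  one_mul x := by ext <;> simp
  mul_one x := by ext <;> simp

/-- Determinant. -/
def det (m : M2 K) : K := m.a * m.d - m.b * m.c

theorem det_mul (m n : M2 K) : (m * n).det = m.det * n.det := by simp [det]; ring

@[simp] theorem det_one : (1 : M2 K).det = 1 := by simp [det]

/-- Action on vectors. -/
def ap (m : M2 K) (v : K × K) : K × K := (m.a * v.1 + m.b * v.2, m.c * v.1 + m.d * v.2)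

@[simp] theorem ap_fst (m : M2 K) (v : K × K) : (m.ap v).1 = m.a * v.1 + m.b * v.2 := rfl
@[simp] theorem ap_snd (m : M2 K) (v : K × K) : (m.ap v).2 = m.c * v.1 + m.d * v.2 := rfl

theorem mul_ap (m n : M2 K) (v : K × K) : (m * n).ap v = m.ap (n.ap v) := by ext <;> simp <;> ring

@[simp] theorem one_ap (v : K × K) : (1 : M2 K).ap v = v := by ext <;> simp

end M2

/-- The Heisenberg group. -/
@[ext] structure He (K : Type*) where
  /-- coordinate -/
  a : K
  /-- coordinate -/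
  b : K
  /-- coordinate -/
  c : K

namespace He
section ring
variable {K : Type*} [CommRing K]

instance instMul : Mul (He K) := ⟨fun x y => ⟨x.a + y.a, x.b + y.b, x.c + y.c + (x.a * y.b - x.b * y.a)⟩⟩
instance instOne : One (He K) := ⟨⟨0, 0, 0⟩⟩
instance instInv : Inv (He K) := ⟨fun x => ⟨-x.a, -x.b, -x.c⟩⟩
@[simp] theorem mul_a (x y : He K) : (x * y).a = x.a + y.a := rfl
@[simp] theorem mul_b (x y : He K) : (x * y).b = x.b + y.b := rfl
@[simp] theorem mul_c (x y : He K) : (x * y).c = x.c + y.c + (x.a * y.b - x.b * y.a) := rfl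
@[simp] theorem one_a : (1 : He K).a = 0 := rfl
@[simp] theorem one_b : (1 : He K).b = 0 := rfl
@[simp] theorem one_c : (1 : He K).c = 0 := rfl
@[simp] theorem inv_a (x : He K) : x⁻¹.a = -x.a := rfl
@[simp] theorem inv_b (x : He K) : x⁻¹.b = -x.b := rfl
@[simp] theorem inv_c (x : He K) : x⁻¹.c = -x.c := rfl

instance instGroup : Group (He K) where
  mul_assoc x y z := by ext <;> simp <;> ring
  one_mul x := by ext <;> simp
  mul_one x := by ext <;> simp
  inv_mul_cancel x := by ext <;> simp; ring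

/-- The underlying triples. -/
def equiv (K : Type*) : He K ≃ K × K × K where
  toFun x := (x.a, x.b, x.c)
  invFun v := ⟨v.1, v.2.1, v.2.2⟩

instance instFinite {K : Type*} [Finite K] : Finite (He K) := .of_equiv _ (equiv K).symm

theorem card {K : Type*} : Nat.card (He K) = Nat.card K ^ 3 := by
  rw [Nat.card_congr (equiv K), Nat.card_prod, Nat.card_prod]; ring

theorem pow_eq (x : He K) (n : ℕ) : x ^ n = ⟨n * x.a, n * x.b, n * x.c⟩ := by
  induction n with
  | zero => ext <;> simp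
  | succ n ih => rw [pow_succ, ih]; ext <;> simp <;> ring

theorem conj_eq (s x : He K) : s * x * s⁻¹ = ⟨x.a, x.b, x.c + 2 * (s.a * x.b - s.b * x.a)⟩ := by
  ext <;> simp; ring

/-- The automorphism given by a matrix. -/
def act (m : M2 K) : He K →* He K := MonoidHom.mk'
  (fun x => ⟨m.a * x.a + m.b * x.b, m.c * x.a + m.d * x.b, m.det * x.c⟩) fun x y => by
    ext <;> simp [M2.det] <;> ring

@[simp] theorem act_a (m : M2 K) (x : He K) : (act m x).a = m.a * x.a + m.b * x.b := rfl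
@[simp] theorem act_b (m : M2 K) (x : He K) : (act m x).b = m.c * x.a + m.d * x.b := rfl
@[simp] theorem act_c (m : M2 K) (x : He K) : (act m x).c = m.det * x.c := rfl

theorem act_mul (m n : M2 K) (x : He K) : act (m * n) x = act m (act n x) := by
  ext <;> simp [M2.det_mul] <;> ring

@[simp] theorem act_one (x : He K) : act 1 x = x := by ext <;> simp

/-- The image in the central quotient. -/
def v (x : He K) : K × K := (x.a, x.b)

@[simp] theorem v_fst (x : He K) : x.v.1 = x.a := rfl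
@[simp] theorem v_snd (x : He K) : x.v.2 = x.b := rfl

theorem v_act (m : M2 K) (x : He K) : (act m x).v = m.ap x.v := rfl

theorem v_eq_zero {x : He K} : x.v = 0 ↔ x.a = 0 ∧ x.b = 0 := Prod.ext_iff

end ring

variable {p : ℕ} [hp : Fact p.Prime]

theorem pow_p (x : He (ZMod p)) : x ^ p = 1 := by rw [pow_eq]; ext <;> simp

theorem isPGroup : IsPGroup p (He (ZMod p)) := fun x => ⟨1, by rw [pow_one, pow_p]⟩

theorem card' : Nat.card (He (ZMod p)) = p ^ 3 := by rw [card, Nat.card_zmod]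

theorem pow_val (x : He (ZMod p)) (t : ZMod p) : x ^ t.val = ⟨t * x.a, t * x.b, t * x.c⟩ := by
  rw [pow_eq, ZMod.natCast_zmod_val]

theorem two_ne (h : p ≠ 2) : (2 : ZMod p) ≠ 0 := fun e =>
  h ((Nat.prime_dvd_prime_iff_eq hp.out Nat.prime_two).1 ((ZMod.natCast_eq_zero_iff 2 p).1 e))

theorem eq_prod (x : He (ZMod p)) :
    x = ⟨1, 0, 0⟩ ^ x.a.val * ⟨0, 1, 0⟩ ^ x.b.val * ⟨0, 0, 1⟩ ^ (x.c - x.a * x.b).val := by
  simp only [pow_val]; ext <;> simp

theorem z_eq (h : p ≠ 2) : (⟨0, 0, 1⟩ : He (ZMod p)) =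
    (⟨1, 0, 0⟩ * ⟨0, 1, 0⟩ * ⟨1, 0, 0⟩⁻¹ * ⟨0, 1, 0⟩⁻¹) ^ (2⁻¹ : ZMod p).val := by
  have := two_ne h
  rw [pow_val]; ext <;> simp
  rw [one_add_one_eq_two, inv_mul_cancel₀ this]

theorem hom_ext (h : p ≠ 2) {G : Type*} [Group G] {f g : He (ZMod p) →* G}
    (h1 : f ⟨1, 0, 0⟩ = g ⟨1, 0, 0⟩) (h2 : f ⟨0, 1, 0⟩ = g ⟨0, 1, 0⟩) : f = g :=
  MonoidHom.ext fun x => by
    rw [eq_prod x, z_eq h]; simp only [map_mul, map_pow, map_inv, h1, h2]

/-- Every endomorphism that is injective is a matrix followed by a conjugation. -/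
theorem exists_act (h : p ≠ 2) (f : He (ZMod p) →* He (ZMod p)) (hf : Function.Injective f) :
    ∃ (m : M2 (ZMod p)) (s : He (ZMod p)), m.det ≠ 0 ∧ ∀ x, f x = s * act m x * s⁻¹ := by
  have two := two_ne h
  set x := f ⟨1, 0, 0⟩ with hx
  set y := f ⟨0, 1, 0⟩ with hy
  have hd : x.a * y.b - y.a * x.b ≠ 0 := fun e => by
    have : f (⟨1, 0, 0⟩ * ⟨0, 1, 0⟩) = f (⟨0, 1, 0⟩ * ⟨1, 0, 0⟩) := by
      rw [map_mul, map_mul, ← hx, ← hy]
      ext
      · simp [add_comm]
      · simp [add_comm]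
      · simp only [mul_c]; linear_combination 2 * e
    have := congrArg He.c (hf this)
    simp at this
    exact two (by linear_combination this)
  refine ⟨⟨x.a, y.a, x.b, y.b⟩, ⟨(x.a * y.c - y.a * x.c) / (2 * (x.a * y.b - y.a * x.b)),
    (x.b * y.c - y.b * x.c) / (2 * (x.a * y.b - y.a * x.b)), 0⟩, hd, fun z => ?_⟩
  refine DFunLike.congr_fun (hom_ext h (g := (MulAut.conj _).toMonoidHom.comp (act _)) ?_ ?_) z
  · rw [← hx]
    change x = _ * _ * _⁻¹
    rw [conj_eq]; ext <;> simp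
    field_simp; ring
  · rw [← hy]
    change y = _ * _ * _⁻¹
    rw [conj_eq]; ext <;> simp
    field_simp; ring

section hom
variable {G : Type*} [Group G]

theorem pw_add {g : G} (h : g ^ p = 1) (s t : ZMod p) : g ^ (s + t).val = g ^ s.val * g ^ t.val := by
  rw [← pow_add, ZMod.val_add, ← pow_eq_pow_mod _ h]

theorem pw_mul {g : G} (h : g ^ p = 1) (s t : ZMod p) : g ^ (s * t).val = g ^ (s.val * t.val) := by
  rw [ZMod.val_mul, ← pow_eq_pow_mod _ h]

theorem swap_pow {x y z : G} (h : x * y = z * y * x) (hx : Commute x z) (hy : Commute y z) (m n : ℕ) :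
    x ^ m * y ^ n = z ^ (m * n) * y ^ n * x ^ m := by
  have k : ∀ n : ℕ, x * y ^ n = z ^ n * y ^ n * x := fun n => by
    induction n with
    | zero => simp
    | succ n ih =>
      rw [pow_succ, ← mul_assoc, ih, mul_assoc _ x, h, pow_succ]
      simp only [← mul_assoc]
      rw [mul_assoc (z ^ n) (y ^ n) z, (hy.pow_left n).eq, ← mul_assoc]
  induction m with
  | zero => simp
  | succ m ih =>
    rw [pow_succ', mul_assoc, ih, ← mul_assoc, ← mul_assoc, (hx.pow_right _).eq, mul_assoc _ x, k,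
      Nat.succ_mul, pow_add]
    simp only [mul_assoc]

/-- A homomorphism from generators and relations. -/
theorem exists_hom (h : p ≠ 2) {x y z : G} (hx : x ^ p = 1) (hy : y ^ p = 1) (hz : z ^ p = 1)
    (e : x * y = z * y * x) (cx : Commute x z) (cy : Commute y z) :
    ∃ ι : He (ZMod p) →* G, ι ⟨1, 0, 0⟩ = x ∧ ι ⟨0, 1, 0⟩ = y ∧ ι ⟨0, 0, 2⟩ = z := by
  have two := two_ne h
  have : Fact (1 < p) := ⟨hp.out.one_lt⟩
  refine ⟨MonoidHom.mk' (fun u => z ^ ((u.c + u.a * u.b) / 2).val * y ^ u.b.val * x ^ u.a.val)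
    fun u w => ?_, by simp [ZMod.val_one], by simp [ZMod.val_one], by simp [two, ZMod.val_one]⟩
  have e1 : ((u * w).c + (u * w).a * (u * w).b) / 2 =
      (u.c + u.a * u.b) / 2 + (w.c + w.a * w.b) / 2 + u.a * w.b := by
    simp; field_simp; ring
  have c1 : ∀ i j : ℕ, x ^ i * z ^ j = z ^ j * x ^ i := fun i j => (cx.pow_pow i j).eq
  have c2 : ∀ i j : ℕ, y ^ i * z ^ j = z ^ j * y ^ i := fun i j => (cy.pow_pow i j).eq
  rw [e1, mul_a, mul_b, pw_add hz, pw_add hz, pw_add hy, pw_add hx, pw_mul hz]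
  generalize ((u.c + u.a * u.b) / 2).val = i
  generalize ((w.c + w.a * w.b) / 2).val = j
  calc _ = z ^ i * z ^ j * (z ^ (u.a.val * w.b.val) * y ^ u.b.val) * y ^ w.b.val * x ^ u.a.val *
        x ^ w.a.val := by simp only [mul_assoc]
    _ = z ^ i * (z ^ j * y ^ u.b.val) * (z ^ (u.a.val * w.b.val) * y ^ w.b.val * x ^ u.a.val) *
        x ^ w.a.val := by rw [← c2]; simp only [mul_assoc]
    _ = z ^ i * y ^ u.b.val * (z ^ j * x ^ u.a.val) * y ^ w.b.val * x ^ w.a.val := by
        rw [← c2, ← swap_pow e cx cy]; simp only [mul_assoc]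
    _ = _ := by rw [← c1]; simp only [mul_assoc]

theorem injective_of (h : p ≠ 2) {ι : He (ZMod p) →* G} (h1 : ι ⟨0, 0, 2⟩ ≠ 1) :
    Function.Injective ι := by
  have two := two_ne h
  have k : ∀ c : ZMod p, ι ⟨0, 0, c⟩ = 1 → c = 0 := fun c e => by_contra fun n => h1 (by
    have := congrArg (· ^ (2 / c).val) e
    simp only [← map_pow, pow_val, one_pow] at this
    simpa [n] using this)
  refine (injective_iff_map_eq_one _).2 fun x e => ?_
  have k2 : ∀ s : He (ZMod p), s.a * x.b - s.b * x.a = 0 := fun s => by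
    have := k (2 * (s.a * x.b - s.b * x.a)) (by
      rw [show (⟨0, 0, 2 * (s.a * x.b - s.b * x.a)⟩ : He (ZMod p)) = s * x * s⁻¹ * x⁻¹ by
        ext <;> simp; ring]
      simp [e])
    exact (mul_eq_zero.1 this).resolve_left two
  have a0 : x.a = 0 := by simpa using k2 ⟨0, 1, 0⟩
  have b0 : x.b = 0 := by simpa using k2 ⟨1, 0, 0⟩
  have c0 := k x.c (by rw [← e]; congr 1; ext <;> simp [a0, b0])
  ext <;> simp [a0, b0, c0]

end hom

end He

end Cfsg.Lib.RV
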