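import Cfsg.Agent.Lib.RV.Three
import Cfsg.Agent.Lib.Th.MLow

/-!
# The `5`-fusion system of the Thompson group has three radical lines
-/

set_option autoImplicit false
set_option maxRecDepth 1000000
set_option maxHeartbeats 0
set_option Elab.async false

namespace Cfsg.Lib.RV

open Cfsg.Lib.Calc Cfsg.Lib.F2 Cfsg.Lib.Big Cfsg.Lib.Th

/-- The code of a product of letters. -/
noncomputable def pr (E : Big.Eng) (L w : List ℕ) : ℕ :=
  List.rec (motive := fun _ => ℕ) E.one (fun i _ ih => forceN ih fun x => E.mul (F2.nth E.one L i) x) w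

theorem pr_spec {G : Type*} [Group G] {E : Big.Eng} {R : G → ℕ → Prop} (hE : E.Laws R) {gs : List G}
    {L : List ℕ} (h : List.Forall₂ R gs L) (w : List ℕ) : R (w.map (lets gs)).prod (pr E L w) := by
  induction w with
  | nil => exact hE.one
  | cons i w ih =>
    change R _ (forceN (pr E L w) fun x => E.mul (F2.nth E.one L i) x)
    rw [forceN_eq, List.map_cons, List.prod_cons]
    exact hE.mul (Eng.forall₂_nth hE.one h i) ih

/-- Relations between letters. -/
noncomputable def prOK (E : Big.Eng) (L : List ℕ) (l : List (List ℕ × List ℕ)) : Bool :=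
  l.all fun e => Nat.beq (pr E L e.1) (pr E L e.2)

theorem prOK_spec {G : Type*} [Group G] {E : Big.Eng} {R : G → ℕ → Prop} (hE : E.Laws R) {gs : List G}
    {L : List ℕ} (h : List.Forall₂ R gs L) {l : List (List ℕ × List ℕ)} (e : prOK E L l = true) :
    ∀ t ∈ l, (t.1.map (lets gs)).prod = (t.2.map (lets gs)).prod := fun t ht =>
  hE.uniq (pr_spec hE h _) (beq_iff.1 (List.all_eq_true.1 e t ht) ▸ pr_spec hE h _)

theorem th1 : prOK eM [s50, s51, s52] [([2, 2, 2, 2, 2], []), ([0, 1], [2, 1, 0]), ([0, 2], [2, 0]),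
    ([1, 2], [2, 1])] = true := by decide +kernel

theorem th2 : forceB (pr eM (LM ++ IM) [7, 5, 5, 15, 13, 1, 2, 7, 1, 2, 7, 1]) (fun g =>
    prOK eM [s50, s52, g] [([2, 0], [1, 1, 1, 2])]) = true := by decide +kernel

theorem th3 : forceB (pr eM (LM ++ IM) [5, 4, 3, 7, 4, 3]) (fun g =>
    prOK eM [s50, s51, s52, g] [([3, 1], [0, 3]), ([3, 0, 0, 0, 0, 1, 1, 1, 1, 2, 2], [1, 3])]) = true := by
  decide +kernel

theorem th4 : Nat.beq (eM.mul s52 eM.one) (eM.mul eM.one eM.one) = false := by decide +kernel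

theorem three_five [Fact (Nat.Prime 5)] (h2 : 5 ≠ 2) : ∃ D : Dat 5, D.Rz h2 ∧ D.Three := by
  obtain ⟨x, -, hx⟩ := gd_s5 s50 (by simp [s5L])
  obtain ⟨y, -, hy⟩ := gd_s5 s51 (by simp [s5L])
  obtain ⟨z, -, hz⟩ := gd_s5 s52 (by simp [s5L])
  have hL : List.Forall₂ RM (gsM ++ gsM.map (·⁻¹)) (LM ++ IM) :=
    List.rel_append valM.1 (List.forall₂_map_left_iff.2 valM.2)
  have k1 := prOK_spec lawM (.cons hx (.cons hy (.cons hz .nil))) th1
  have k2 := prOK_spec lawM (.cons hx (.cons hz (.cons (pr_spec lawM hL _) .nil))) ((forceB_eq _ _).symm.trans th2)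
  have k3 := prOK_spec lawM (.cons hx (.cons hy (.cons hz (.cons (pr_spec lawM hL _) .nil))))
    ((forceB_eq _ _).symm.trans th3)
  have k4 := canM.ne (lawM.mul hz lawM.one) (lawM.mul lawM.one lawM.one) th4
  generalize (List.map (lets (gsM ++ gsM.map (·⁻¹))) [7, 5, 5, 15, 13, 1, 2, 7, 1, 2, 7, 1]).prod = g at k2
  generalize (List.map (lets (gsM ++ gsM.map (·⁻¹))) [5, 4, 3, 7, 4, 3]).prod = s at k3
  simp only [List.forall_mem_cons, List.not_mem_nil, IsEmpty.forall_iff, implies_true, and_true, List.map_cons,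
    List.map_nil, List.prod_cons, List.prod_nil, lets, List.getD_cons_succ, List.getD_cons_zero, mul_one] at k1 k2 k3 k4
  obtain ⟨a1, a2, a3, a4⟩ := k1
  obtain ⟨b1, b2⟩ := k3
  have z5 : z ^ 5 = 1 := by rw [← a1]; simp only [pow_succ', pow_zero, mul_one]
  have e1 : g * x * g⁻¹ = z ^ 3 := by rw [k2]; simp only [pow_succ', pow_zero, mul_one, mul_assoc, mul_inv_cancel]
  have e2 : s * y * s⁻¹ = x := by rw [b1, mul_inv_cancel_right]
  have e3 : s * (x ^ 4 * y ^ 4 * z ^ 2) * s⁻¹ = y := by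
    rw [mul_inv_eq_iff_eq_mul, ← b2]; simp only [pow_succ', pow_zero, mul_one, mul_assoc]
  have c5 : ∀ {u v t : GM}, t * u * t⁻¹ = v → v ^ 5 = 1 → u ^ 5 = 1 := fun {u v t} e h => by
    rwa [← e, conj_pow, conj_eq_one_iff] at h
  have x5 : x ^ 5 = 1 := c5 e1 (by rw [← pow_mul, mul_comm, pow_mul, z5, one_pow])
  have c : ∀ {u v w s t : GM}, s * u * s⁻¹ = v → t * v * t⁻¹ = w → t * s * u * (t * s)⁻¹ = w :=
    fun {u v w s t} e e' => by rw [← e', ← e]; group
  have n4 : ((4 : ℕ) : ZMod 5) ≠ 0 := by rw [Ne, ZMod.natCast_eq_zero_iff]; decide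
  exact exists_three h2 (G := GM) (by rw [isTh_GM.2]; decide) x5 (c5 e2 x5) z5 (a2.trans (mul_assoc _ _ _).symm) a3 a4
    k4 (a := 4) (b := 4) (c := 2) n4 n4 ⟨g, 3, e1⟩ ⟨g * s, 3, c e2 e1⟩ ⟨g * s * s, 3, c e3 (c e2 e1)⟩

end Cfsg.Lib.RV
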