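import Cfsg.Agent.Lib.RV.He

/-! # The linear data of a fusion system on the extraspecial group of exponent `p`

`W` is the outer automorphism group, as matrices, and `R` the set of vectors on radical lines. -/

set_option autoImplicit false

namespace Cfsg.Lib.RV

variable {p : ℕ} [hp : Fact p.Prime]

namespace M2
variable {K : Type*} [CommRing K]

theorem ap_smul (m : M2 K) (t : K) (v : K × K) : m.ap (t • v) = t • m.ap v := by
  ext <;> simp <;> ring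

theorem det_pow (m : M2 K) (n : ℕ) : (m ^ n).det = m.det ^ n := by
  induction n with
  | zero => simp
  | succ n ih => rw [pow_succ, det_mul, ih, pow_succ]

theorem conj_pow {g g' : M2 K} (h : g * g' = 1) (h' : g' * g = 1) (m : M2 K) (n : ℕ) :
    (g * m * g') ^ n = g * m ^ n * g' := by
  induction n with
  | zero => simp [h]
  | succ n ih =>
    rw [pow_succ, ih, pow_succ]
    calc _ = g * m ^ n * (g' * g) * m * g' := by simp only [mul_assoc]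
      _ = _ := by rw [h', mul_one]; simp only [mul_assoc]

theorem det_conj {g g' : M2 K} (h : g * g' = 1) (m : M2 K) : (g * m * g').det = m.det := by
  rw [det_mul, det_mul, mul_right_comm, ← det_mul, h, det_one, one_mul]

theorem ext_ap {m n : M2 K} (h : ∀ v, m.ap v = n.ap v) : m = n := by
  have h1 := h (1, 0)
  have h2 := h (0, 1)
  simp only [Prod.ext_iff, ap_fst, ap_snd, mul_one, mul_zero, add_zero, zero_add] at h1 h2
  exact M2.ext h1.1 h2.1 h1.2 h2.2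

end M2

/-- The determinant of two vectors. -/
def wd {K : Type*} [CommRing K] (u v : K × K) : K := u.1 * v.2 - u.2 * v.1

theorem wd_ap {K : Type*} [CommRing K] (m : M2 K) (u v : K × K) :
    wd (m.ap u) (m.ap v) = m.det * wd u v := by simp [wd, M2.det]; ring

variable (p) in
/-- The linear data. -/
structure Dat where
  /-- outer automorphisms -/
  W : Set (M2 (ZMod p))
  /-- radical vectors -/
  R : Set (ZMod p × ZMod p)
  one : 1 ∈ W
  mul : ∀ {m n}, m ∈ W → n ∈ W → m * n ∈ W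
  cop : ∀ {m}, m ∈ W → ∃ n, ¬ p ∣ n ∧ m ^ n = 1
  ne : ∀ {v}, v ∈ R → v ≠ 0
  smul : ∀ {v} {t : ZMod p}, v ∈ R → t ≠ 0 → t • v ∈ R
  ap : ∀ {m v}, m ∈ W → v ∈ R → m.ap v ∈ R
  tor : ∀ {v} {l : ZMod p}, v ∈ R → l ≠ 0 → ∃ m ∈ W, m.ap v = l⁻¹ • v ∧ m.det = l

namespace Dat
variable {D D' D'' : Dat p} {m n g g' : M2 (ZMod p)} {u v w : ZMod p × ZMod p}

theorem pow (D : Dat p) (h : m ∈ D.W) (k : ℕ) : m ^ k ∈ D.W := by
  induction k with
  | zero => simpa using D.one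
  | succ k ih => rw [pow_succ]; exact D.mul ih h

theorem inv (D : Dat p) (h : m ∈ D.W) : ∃ n ∈ D.W, m * n = 1 ∧ n * m = 1 := by
  obtain ⟨_ | k, h1, h2⟩ := D.cop h
  · simp at h1
  · exact ⟨m ^ k, D.pow h k, by rw [← pow_succ', h2], by rw [← pow_succ, h2]⟩

theorem det_ne (D : Dat p) (h : m ∈ D.W) : m.det ≠ 0 := fun e => by
  obtain ⟨n, -, h1, -⟩ := D.inv h
  have := congrArg M2.det h1
  rw [M2.det_mul, e] at this
  simp at this

theorem of_mul (D : Dat p) (h : m ∈ D.W) (h' : m * n ∈ D.W) : n ∈ D.W := by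
  obtain ⟨k, hk, -, h1⟩ := D.inv h
  have := D.mul hk h'
  rwa [← mul_assoc, h1, one_mul] at this

theorem of_mul' (D : Dat p) (h : m ∈ D.W) (h' : n * m ∈ D.W) : n ∈ D.W := by
  obtain ⟨k, hk, h1, -⟩ := D.inv h
  have := D.mul h' hk
  rwa [mul_assoc, h1, mul_one] at this

theorem of_ap (D : Dat p) (h : m ∈ D.W) (h' : m.ap v ∈ D.R) : v ∈ D.R := by
  obtain ⟨k, hk, -, h1⟩ := D.inv h
  have := D.ap hk h'
  rwa [← M2.mul_ap, h1, M2.one_ap] at this

/-- No transvections. -/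
theorem uni (D : Dat p) {t : ZMod p} (h : (⟨1, t, 0, 1⟩ : M2 (ZMod p)) ∈ D.W) : t = 0 := by
  obtain ⟨k, h1, h2⟩ := D.cop h
  have e : ∀ k : ℕ, (⟨1, t, 0, 1⟩ : M2 (ZMod p)) ^ k = ⟨1, k * t, 0, 1⟩ := fun k => by
    induction k with
    | zero => ext <;> simp
    | succ k ih => rw [pow_succ, ih]; ext <;> simp; ring
  rw [e] at h2
  have := congrArg M2.b h2
  simp only [M2.one_b, mul_eq_zero, ZMod.natCast_eq_zero_iff] at this
  exact this.resolve_left h1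

/-- Conjugate data. -/
def Is (D D' : Dat p) : Prop := ∃ g g' : M2 (ZMod p), g * g' = 1 ∧ g' * g = 1 ∧
  (∀ m, m ∈ D.W ↔ g * m * g' ∈ D'.W) ∧ ∀ v, v ∈ D.R ↔ g.ap v ∈ D'.R

theorem is_of_eq (h1 : ∀ m, m ∈ D.W ↔ m ∈ D'.W) (h2 : ∀ v, v ∈ D.R ↔ v ∈ D'.R) : Is D D' :=
  ⟨1, 1, mul_one _, mul_one _, by simpa using h1, by simpa using h2⟩

theorem Is.symm (h : Is D D') : Is D' D := by
  obtain ⟨g, g', h1, h2, h3, h4⟩ := h
  refine ⟨g', g, h2, h1, fun m => ?_, fun v => ?_⟩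
  · rw [h3, show g * (g' * m * g) * g' = (g * g') * m * (g * g') by simp only [mul_assoc], h1,
      one_mul, mul_one]
  · rw [h4, ← M2.mul_ap, h1, M2.one_ap]

theorem Is.trans (h : Is D D') (h' : Is D' D'') : Is D D'' := by
  obtain ⟨g, g', h1, h2, h3, h4⟩ := h
  obtain ⟨k, k', k1, k2, k3, k4⟩ := h'
  refine ⟨k * g, g' * k', ?_, ?_, fun m => ?_, fun v => by rw [h4, k4, M2.mul_ap]⟩
  · rw [mul_assoc, ← mul_assoc g, h1, one_mul, k1]
  · rw [mul_assoc, ← mul_assoc k', k2, one_mul, h2]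
  · rw [h3, k3]; simp only [mul_assoc]

/-- Transport along a change of basis. -/
def conj (D : Dat p) (h : g * g' = 1) (h' : g' * g = 1) : Dat p where
  W := {m | g' * m * g ∈ D.W}
  R := {v | g'.ap v ∈ D.R}
  one := by simpa [h'] using D.one
  mul {m n} hm hn := by
    have := D.mul hm hn
    rwa [show g' * m * g * (g' * n * g) = g' * (m * (g * g') * n) * g by simp only [mul_assoc], h,
      mul_one] at this
  cop {m} hm := by
    obtain ⟨k, h1, h2⟩ := D.cop hm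
    refine ⟨k, h1, ?_⟩
    rw [M2.conj_pow h' h] at h2
    calc m ^ k = (g * g') * m ^ k * (g * g') := by rw [h, one_mul, mul_one]
      _ = g * (g' * m ^ k * g) * g' := by simp only [mul_assoc]
      _ = 1 := by rw [h2, mul_one, h]
  ne hv e := D.ne hv (by rw [e]; ext <;> simp)
  smul hv ht := by
    have := D.smul hv ht
    rwa [← M2.ap_smul] at this
  ap {m v} hm hv := by
    have := D.ap hm hv
    rwa [← M2.mul_ap, mul_assoc, h, mul_one, M2.mul_ap] at this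
  tor {v l} hv hl := by
    obtain ⟨m, h1, h2, h3⟩ := D.tor hv hl
    refine ⟨g * m * g', ?_, ?_, by rw [M2.det_conj h, h3]⟩
    · change g' * _ * g ∈ D.W
      rwa [show g' * (g * m * g') * g = (g' * g) * m * (g' * g) by simp only [mul_assoc], h',
        one_mul, mul_one]
    · rw [M2.mul_ap, M2.mul_ap, h2, M2.ap_smul, ← M2.mul_ap, h, M2.one_ap]

theorem is_conj (D : Dat p) (h : g * g' = 1) (h' : g' * g = 1) : Is (D.conj h h') D :=
  ⟨g', g, h', h, fun _ => Iff.rfl, fun _ => Iff.rfl⟩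

/-- A change of basis taking the standard basis to a given one. -/
theorem exists_basis (h : wd u v ≠ 0) : ∃ g g' : M2 (ZMod p), g * g' = 1 ∧ g' * g = 1 ∧
    g'.ap (1, 0) = u ∧ g'.ap (0, 1) = v := by
  refine ⟨⟨v.2 / wd u v, -v.1 / wd u v, -u.2 / wd u v, u.1 / wd u v⟩, ⟨u.1, v.1, u.2, v.2⟩, ?_, ?_,
    by ext <;> simp, by ext <;> simp⟩ <;> ext <;> simp <;> field_simp <;> simp [wd] <;> ring

/-- Three radical lines. -/
def Three (D : Dat p) : Prop :=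
  ∃ u ∈ D.R, ∃ v ∈ D.R, ∃ w ∈ D.R, wd u v ≠ 0 ∧ wd u w ≠ 0 ∧ wd v w ≠ 0

theorem Is.three (h : Is D D') (h3 : D.Three) : D'.Three := by
  obtain ⟨g, g', h1, -, -, h4⟩ := h
  obtain ⟨u, hu, v, hv, w, hw, e1, e2, e3⟩ := h3
  have hd : g.det ≠ 0 := fun e => by
    have := congrArg M2.det h1
    rw [M2.det_mul, e] at this
    simp at this
  exact ⟨_, (h4 u).1 hu, _, (h4 v).1 hv, _, (h4 w).1 hw, by simp [wd_ap, hd, e1],
    by simp [wd_ap, hd, e2], by simp [wd_ap, hd, e3]⟩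

/-- The radical lines are the axes. -/
def Ax (D : Dat p) : Prop := ∀ v, v ∈ D.R ↔ v ≠ 0 ∧ (v.1 = 0 ∨ v.2 = 0)

theorem exists_ax (hu : u ∈ D.R) (hv : v ∈ D.R) (h : wd u v ≠ 0) (h3 : ¬ D.Three) :
    ∃ D' : Dat p, Is D' D ∧ D'.Ax := by
  obtain ⟨g, g', h1, h2, h4, h5⟩ := exists_basis h
  have k1 : ((1, 0) : ZMod p × ZMod p) ∈ (D.conj h1 h2).R := by change _ ∈ D.R; rwa [h4]
  have k2 : ((0, 1) : ZMod p × ZMod p) ∈ (D.conj h1 h2).R := by change _ ∈ D.R; rwa [h5]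
  refine ⟨_, D.is_conj h1 h2, fun w => ⟨fun hw => ⟨Dat.ne _ hw, by_contra fun n => ?_⟩, ?_⟩⟩
  · push Not at n
    exact h3 ((D.is_conj h1 h2).three ⟨_, k1, _, k2, _, hw, by simp [wd], by simpa [wd] using n.2,
      by simpa [wd] using n.1⟩)
  · rintro ⟨n, e | e⟩
    · have := Dat.smul _ k2 (t := w.2) fun e' => n (Prod.ext e e')
      convert this using 1
      ext <;> simp [e]
    · have := Dat.smul _ k1 (t := w.1) fun e' => n (Prod.ext e' e)
      convert this using 1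
      ext <;> simp [e]

/-- A diagonal element with a ratio that is not a cube. -/
def Φ1 (D : Dat p) : Prop := ∃ x y, (⟨x, 0, 0, y⟩ : M2 (ZMod p)) ∈ D.W ∧ ¬ ∃ t, x = y * t ^ 3

/-- An element interchanging the axes. -/
def Φ2 (D : Dat p) : Prop := ∃ x y, (⟨0, x, y, 0⟩ : M2 (ZMod p)) ∈ D.W

theorem Ax.mono (h : D.Ax) (hm : m ∈ D.W) : m.b = 0 ∧ m.c = 0 ∨ m.a = 0 ∧ m.d = 0 := by
  have h1 := ((h _).1 (D.ap hm ((h (1, 0)).2 (by simp)))).2
  have h2 := ((h _).1 (D.ap hm ((h (0, 1)).2 (by simp)))).2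
  have h3 := D.det_ne hm
  simp only [M2.ap_fst, M2.ap_snd, mul_one, mul_zero, add_zero, zero_add, M2.det] at h1 h2 h3
  rcases h1 with h1 | h1 <;> rcases h2 with h2 | h2 <;> simp_all

theorem Ax.t0 (h : D.Ax) {y t : ZMod p} (hy : y ≠ 0) (ht : t ≠ 0) :
    (⟨y * t ^ 3, 0, 0, y⟩ : M2 (ZMod p)) ∈ D.W := by
  have hl := mul_ne_zero hy ht
  have hm := mul_ne_zero hy (pow_ne_zero 2 ht)
  obtain ⟨a, a1, a2, a3⟩ := D.tor ((h (1, 0)).2 (by simp)) hl
  obtain ⟨b, b1, b2, b3⟩ := D.tor ((h (0, 1)).2 (by simp)) hm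
  simp only [Prod.ext_iff, M2.ap_fst, M2.ap_snd, mul_one, mul_zero, add_zero, zero_add,
    Prod.smul_fst, Prod.smul_snd, smul_eq_mul, M2.det] at a2 a3 b2 b3
  have a4 : a.b = 0 := ((h.mono a1).resolve_right fun e => hl (by simpa [e.1, or_comm] using a2.1.symm)).1
  have b4 : b.c = 0 := ((h.mono b1).resolve_right fun e => hm (by simpa [e.2, or_comm] using b2.2.symm)).2
  convert D.mul a1 b1 using 1
  rw [a2.1, a2.2, a4] at a3
  rw [b2.1, b2.2, b4] at b3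
  have a5 : a.d = (y * t) ^ 2 := by field_simp at a3; linear_combination a3
  have b5 : b.a = (y * t ^ 2) ^ 2 := by field_simp at b3; linear_combination b3
  ext <;> simp [a2.1, a2.2, a4, b2.1, b2.2, b4, a5, b5] <;> field_simp

theorem cube_cases {K : Type*} [Field K] [Finite K] {x y : K} (hx : ¬ ∃ t, x = t ^ 3) (hy : y ≠ 0) :
    ∃ (i : ℕ) (t : K), t ≠ 0 ∧ y = x ^ i * t ^ 3 := by
  obtain ⟨g, hg⟩ := IsCyclic.exists_monoid_generator (α := Kˣ)
  have hx0 : x ≠ 0 := fun e => hx ⟨0, by simp [e]⟩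
  obtain ⟨i, hi⟩ := hg (Units.mk0 x hx0)
  obtain ⟨j, hj⟩ := hg (Units.mk0 y hy)
  have ei : x = g ^ i := by simpa using (congrArg Units.val hi).symm
  have ej : y = g ^ j := by simpa using (congrArg Units.val hj).symm
  have h3 : i % 3 ≠ 0 := fun e => hx ⟨g ^ (i / 3), by rw [ei, ← pow_mul]; congr 1; omega⟩
  obtain ⟨k, hk⟩ : ∃ k, (i * k + 2 * j) % 3 = 0 := by
    rcases (by omega : j % 3 = 0 ∨ j % 3 = 1 ∨ j % 3 = 2) with e | e | e
    · exact ⟨0, by omega⟩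
    · rcases (by omega : i % 3 = 1 ∨ i % 3 = 2) with e' | e'
      · exact ⟨1, by omega⟩
      · exact ⟨2, by omega⟩
    · rcases (by omega : i % 3 = 1 ∨ i % 3 = 2) with e' | e'
      · exact ⟨2, by omega⟩
      · exact ⟨1, by omega⟩
  have g0 : (g : K) ≠ 0 := g.ne_zero
  refine ⟨k, g ^ j / g ^ ((i * k + 2 * j) / 3), by simp [g0], ?_⟩
  rw [ei, ej, div_pow, ← pow_mul, ← pow_mul, ← pow_mul, Nat.div_mul_cancel (Nat.dvd_of_mod_eq_zero hk)]
  field_simp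
  ring

theorem Ax.diag (h : D.Ax) {x y : ZMod p} : (⟨x, 0, 0, y⟩ : M2 (ZMod p)) ∈ D.W ↔
    x ≠ 0 ∧ y ≠ 0 ∧ (D.Φ1 ∨ ∃ t, x = y * t ^ 3) := by
  refine ⟨fun hm => ?_, fun ⟨hx, hy, h1⟩ => ?_⟩
  · have := D.det_ne hm
    simp only [M2.det, mul_zero, sub_zero, ne_eq, mul_eq_zero, not_or] at this
    exact ⟨this.1, this.2, or_iff_not_imp_right.2 fun n => ⟨x, y, hm, n⟩⟩
  rcases h1 with ⟨a, b, h1, h2⟩ | ⟨t, rfl⟩
  swap
  · exact h.t0 hy fun e => hx (by simp [e])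
  have := D.det_ne h1
  simp only [M2.det, mul_zero, sub_zero, ne_eq, mul_eq_zero, not_or] at this
  obtain ⟨ha, hb⟩ := this
  obtain ⟨i, t, ht, e⟩ := cube_cases (x := a / b) (y := x / y)
    (fun ⟨t, e⟩ => h2 ⟨t, by rw [← e]; field_simp⟩) (div_ne_zero hx hy)
  have e1 : ∀ i : ℕ, (⟨a, 0, 0, b⟩ : M2 (ZMod p)) ^ i = ⟨a ^ i, 0, 0, b ^ i⟩ := fun i => by
    induction i with
    | zero => ext <;> simp
    | succ i ih => rw [pow_succ, ih]; ext <;> simp [pow_succ]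
  convert D.mul (D.pow h1 i) (h.t0 (y := y / b ^ i) (div_ne_zero hy (pow_ne_zero _ hb)) ht) using 1
  rw [e1]
  rw [div_pow] at e
  ext <;> simp
  · field_simp at e ⊢; linear_combination e
  · field_simp

theorem Ax.exists_swap (h : D.Ax) : ∃ D' : Dat p, Is D' D ∧ D'.Ax ∧ (D'.Φ1 ↔ D.Φ1) ∧
    ∀ x y, (⟨0, x, y, 0⟩ : M2 (ZMod p)) ∈ D'.W ↔
      D.Φ2 ∧ (⟨x, 0, 0, y⟩ : M2 (ZMod p)) ∈ D'.W := by
  by_cases h2 : D.Φ2
  swap
  · exact ⟨D, is_of_eq (by simp) (by simp), h, Iff.rfl, fun x y =>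
      iff_of_false (fun e => h2 ⟨x, y, e⟩) fun e => h2 e.1⟩
  obtain ⟨b, c, e⟩ := id h2
  have := D.det_ne e
  simp only [M2.det, mul_zero, zero_sub, ne_eq, neg_eq_zero, mul_eq_zero, not_or] at this
  obtain ⟨hb, hc⟩ := this
  have h1 : (⟨b / c, 0, 0, 1⟩ : M2 (ZMod p)) * ⟨c / b, 0, 0, 1⟩ = 1 := by
    ext <;> simp; field_simp
  have h1' : (⟨c / b, 0, 0, 1⟩ : M2 (ZMod p)) * ⟨b / c, 0, 0, 1⟩ = 1 := by
    ext <;> simp; field_simp
  have hA : (D.conj h1 h1').Ax := fun v => (h _).trans (by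
    simp [Prod.ext_iff, hb, hc])
  have hd : ∀ x y, (⟨x, 0, 0, y⟩ : M2 (ZMod p)) ∈ (D.conj h1 h1').W ↔
      (⟨x, 0, 0, y⟩ : M2 (ZMod p)) ∈ D.W := fun x y => by
    change _ ∈ D.W ↔ _
    congr! 1
    ext <;> simp; field_simp
  have hs : (⟨0, 1, 1, 0⟩ : M2 (ZMod p)) ∈ (D.conj h1 h1').W := by
    refine Dat.of_mul _ (hA.t0 (y := c * c / b) (t := b / c) (by simp [hb, hc]) (by simp [hb, hc])) ?_
    change _ ∈ D.W
    convert e using 1
    ext <;> simp <;> field_simp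
  refine ⟨_, D.is_conj h1 h1', hA, by simp only [Φ1, hd], fun x y => ⟨fun k => ⟨h2, ?_⟩, fun k => ?_⟩⟩
  · convert Dat.mul _ k hs using 1
    ext <;> simp
  · convert Dat.mul _ k.2 hs using 1
    ext <;> simp

/-- Data with two radical lines are determined by two flags. -/
theorem is_of_ax (h : D.Ax) (h' : D'.Ax) (h1 : D.Φ1 ↔ D'.Φ1) (h2 : D.Φ2 ↔ D'.Φ2) : Is D D' := by
  obtain ⟨E, e1, e2, e3, e4⟩ := h.exists_swap
  obtain ⟨E', e1', e2', e3', e4'⟩ := h'.exists_swap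
  have k : ∀ x y, (⟨x, 0, 0, y⟩ : M2 (ZMod p)) ∈ E.W ↔ (⟨x, 0, 0, y⟩ : M2 (ZMod p)) ∈ E'.W :=
    fun x y => by rw [e2.diag, e2'.diag, e3, e3', h1]
  have k' : ∀ x y, (⟨0, x, y, 0⟩ : M2 (ZMod p)) ∈ E.W ↔ (⟨0, x, y, 0⟩ : M2 (ZMod p)) ∈ E'.W :=
    fun x y => by rw [e4, e4', k, h2]
  refine e1.symm.trans ((is_of_eq (fun ⟨a, b, c, d⟩ => ⟨fun hm => ?_, fun hm => ?_⟩)
    fun v => (e2 v).trans (e2' v).symm).trans e1')
  · rcases e2.mono hm with ⟨rfl, rfl⟩ | ⟨rfl, rfl⟩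
    exacts [(k _ _).1 hm, (k' _ _).1 hm]
  · rcases e2'.mono hm with ⟨rfl, rfl⟩ | ⟨rfl, rfl⟩
    exacts [(k _ _).2 hm, (k' _ _).2 hm]

end Dat

end Cfsg.Lib.RV
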