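import Cfsg.Agent.Lib.RV.Dat
import Cfsg.Agent.Lib.Sp4F.Gen
import Cfsg.Agent.Lib.Rk2.Amb

/-! # A saturated fusion system on the extraspecial group is determined by its linear data -/

set_option autoImplicit false
set_option linter.unusedSectionVars false

namespace Cfsg.Lib.RV

open Subgroup Cfsg.Lib.Transfer Cfsg.Lib.Fusion He
open Cfsg.FusionSystem hiding inv_mem

variable {p : ℕ} [hp : Fact p.Prime]

local notation "K" => ZMod p
local notation "H" => He (ZMod p)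

/-- The preimage of a line. -/
def sV (v : K × K) : Subgroup H where
  carrier := {x | x.a * v.2 = x.b * v.1}
  one_mem' := by simp
  mul_mem' {x y} hx hy := by
    simp only [Set.mem_ofPred_eq, mul_a, mul_b] at *; linear_combination hx + hy
  inv_mem' {x} hx := by simp only [Set.mem_ofPred_eq, inv_a, inv_b] at *; linear_combination -hx

/-- The centre. -/
def sZ : Subgroup H where
  carrier := {x | x.a = 0 ∧ x.b = 0}
  one_mem' := by simp
  mul_mem' {x y} hx hy := by simp [hx.1, hx.2, hy.1, hy.2]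
  inv_mem' {x} hx := by simp [hx.1, hx.2]

@[simp] theorem mem_sV {v : K × K} {x : H} : x ∈ sV v ↔ x.a * v.2 = x.b * v.1 := Iff.rfl
@[simp] theorem mem_sZ {x : H} : x ∈ (sZ : Subgroup H) ↔ x.a = 0 ∧ x.b = 0 := Iff.rfl

theorem sZ_le (v : K × K) : sZ ≤ sV v := fun x hx => by simp [hx.1, hx.2]

theorem norm_of {P : Subgroup H} (h : sZ ≤ P) : ⊤ ≤ normalizer (P : Set H) := fun s _ =>
  mem_normalizer_of_conj_mem fun x hx => by
    rw [show s * x * s⁻¹ = x * ⟨0, 0, 2 * (s.a * x.b - s.b * x.a)⟩ by ext <;> simp; ring]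
    exact mul_mem hx (h (by simp))

theorem sZ_le_of {P : Subgroup H} {c : K} (hc : c ≠ 0) (h : (⟨0, 0, c⟩ : H) ∈ P) : sZ ≤ P :=
  fun x hx => by
    have := pow_mem h (x.c / c).val
    rw [pow_val] at this
    convert this using 1
    ext <;> simp [hx.1, hx.2, hc]

/-- Coordinates on the preimage of a line. -/
def φ (v : K × K) (w : K × K) : H := ⟨w.1 * v.1, w.1 * v.2, w.2⟩

theorem φ_mem (v w : K × K) : φ v w ∈ sV v := by simp [φ]; ring

theorem φ_add (v w w' : K × K) : φ v (w + w') = φ v w * φ v w' := by ext <;> simp [φ] <;> ring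

theorem φ_smul (v w : K × K) (t : K) : φ v (t • w) = φ v w ^ t.val := by
  rw [pow_val]; ext <;> simp [φ] <;> ring

theorem exists_φ {v : K × K} (hv : v ≠ 0) {x : H} (hx : x ∈ sV v) : ∃ w, φ v w = x := by
  rw [mem_sV] at hx
  by_cases h : v.1 = 0
  · have h2 : v.2 ≠ 0 := fun e => hv (Prod.ext h e)
    refine ⟨(x.b / v.2, x.c), ?_⟩
    ext <;> simp_all [φ]
  · refine ⟨(x.a / v.1, x.c), ?_⟩
    ext <;> simp [φ, h]
    field_simp; linear_combination hx

theorem φ_inj {v : K × K} (hv : v ≠ 0) {w w' : K × K} (h : φ v w = φ v w') : w = w' := by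
  simp only [φ, He.mk.injEq, mul_eq_mul_right_iff] at h
  refine Prod.ext (by_contra fun n => hv (Prod.ext ?_ ?_)) h.2.2
  exacts [h.1.resolve_left n, h.2.1.resolve_left n]

variable {F F' : FusionSystem (⊤ : Subgroup (He (ZMod p)))} {v : ZMod p × ZMod p}
  {m n : M2 (ZMod p)}

/-- The matrix `n` is induced on the preimage of a line. -/
def Au (F : FusionSystem (⊤ : Subgroup H)) (v : K × K) (n : M2 K) : Prop :=
  ∃ f, Mor F (sV v) f ∧ ∀ w, f (φ v w) = φ v (n.ap w)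

theorem Au.mul (hv : v ≠ 0) (h : Au F v m) (h' : Au F v n) : Au F v (m * n) := by
  obtain ⟨f, f1, f2⟩ := h
  obtain ⟨g, g1, g2⟩ := h'
  refine ⟨_, g1.comp f1 fun x hx => ?_, fun w => by simp only [g2, f2, M2.mul_ap]⟩
  obtain ⟨w, rfl⟩ := exists_φ hv hx
  rw [g2]; exact φ_mem _ _

theorem Au.inv (hv : v ≠ 0) (h : Au F v m) (e : m * n = 1) : Au F v n := by
  obtain ⟨f, f1, f2⟩ := h
  choose! c hc using fun x (hx : x ∈ sV v) => exists_φ hv hx
  have k : ∀ w, c (φ v w) = w := fun w => φ_inj hv (hc _ (φ_mem _ _))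
  refine ⟨fun x => φ v (n.ap (c x)), f1.of_rightInv fun x hx => ⟨φ_mem _ _, ?_⟩, fun w => by
    simp only [k]⟩
  rw [f2, ← M2.mul_ap, e, M2.one_ap, hc x hx]

theorem exists_au (hv : v ≠ 0) {f : H → H} (hf : Mor F (sV v) f) (hm : ∀ x ∈ sV v, f x ∈ sV v) :
    ∃ n : M2 K, n.det ≠ 0 ∧ ∀ w, f (φ v w) = φ v (n.ap w) := by
  obtain ⟨a, ha⟩ := exists_φ hv (hm _ (φ_mem v (1, 0)))
  obtain ⟨b, hb⟩ := exists_φ hv (hm _ (φ_mem v (0, 1)))
  have k : ∀ w : K × K, f (φ v w) = φ v ((⟨a.1, b.1, a.2, b.2⟩ : M2 K).ap w) := fun w => by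
    rw [show w = w.1 • ((1, 0) : K × K) + w.2 • (0, 1) by ext <;> simp, φ_add, φ_smul, φ_smul,
      hf.homOn _ (pow_mem (φ_mem _ _) _) _ (pow_mem (φ_mem _ _) _), hf.homOn.map_pow (φ_mem _ _),
      hf.homOn.map_pow (φ_mem _ _), ← ha, ← hb, ← φ_smul, ← φ_smul, ← φ_add]
    congr 1
    ext <;> simp <;> ring
  refine ⟨_, fun e => ?_, k⟩
  have k2 : ∀ w : K × K, (⟨a.1, b.1, a.2, b.2⟩ : M2 K).ap w = 0 → w = 0 := fun w h => by
    refine φ_inj hv (hf.injOn (φ_mem _ _) (φ_mem _ _) ?_)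
    rw [k, k, h]; congr 1; ext <;> simp
  simp only [M2.det] at e
  have h1 := k2 (b.2, -a.2) (by ext <;> simp <;> first | ring1 | linear_combination e)
  have h2 := k2 (b.1, -a.1) (by ext <;> simp <;> first | ring1 | linear_combination -e)
  rw [Prod.ext_iff, neg_eq_iff_eq_neg] at h1 h2
  have h3 := k2 (1, 0) (by ext <;> simp [h1.2, h2.2])
  simp at h3

variable (h2 : p ≠ 2)
include h2

theorem au_L (F : FusionSystem (⊤ : Subgroup H)) (hv : v ≠ 0) (t : K) : Au F v ⟨1, 0, t, 1⟩ := by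
  have two := two_ne h2
  obtain ⟨s, hs⟩ : ∃ s : H, 2 * (s.a * v.2 - s.b * v.1) = t := by
    by_cases h : v.1 = 0
    · have h3 : v.2 ≠ 0 := fun e => hv (Prod.ext h e)
      exact ⟨⟨t / (2 * v.2), 0, 0⟩, by simp; field_simp⟩
    · exact ⟨⟨0, -t / (2 * v.1), 0⟩, by simp; field_simp⟩
  refine ⟨_, mor_conj F le_top (mem_top s), fun w => ?_⟩
  simp only [conj_eq, ← hs]
  ext <;> simp [φ]; ring

theorem au_sl (hv : v ≠ 0) (h : Au F v n) (hd : n.det ≠ 0) (hb : n.b ≠ 0) (hm : m.det = 1) :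
    Au F v m := by
  have hL := au_L h2 F hv
  have hU : ∀ t, Au F v ⟨1, t, 0, 1⟩ := fun t => by
    obtain ⟨c, hc, h1⟩ : ∃ c, c ≠ 0 ∧ Au F v ⟨n.a, n.b, c, 0⟩ := by
      refine ⟨-n.det / n.b, by simp [hd, hb], ?_⟩
      convert (hL (-n.d / n.b)).mul hv h using 1
      ext <;> simp [M2.det] <;> field_simp <;> ring
    have h3 := h1.inv hv (n := ⟨0, 1 / c, 1 / n.b, -n.a / (n.b * c)⟩) (by
      ext <;> simp <;> field_simp <;> ring)
    convert (h1.mul hv (hL (t * c / n.b))).mul hv h3 using 1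
    ext <;> simp <;> field_simp <;> ring
  have k : ∀ m : M2 K, m.det = 1 → m.c ≠ 0 → Au F v m := fun m hm hc => by
    convert ((hU ((m.a - 1) / m.c)).mul hv (hL m.c)).mul hv (hU ((m.d - 1) / m.c)) using 1
    simp only [M2.det] at hm
    ext <;> simp <;> field_simp <;> first | ring1 | linear_combination -hm
  by_cases hc : m.c = 0
  swap
  · exact k m hm hc
  have ha : m.a ≠ 0 := fun e => by simp [M2.det, e, hc] at hm
  convert (hL (-1)).mul hv (k (⟨1, 0, 1, 1⟩ * m) (by rw [M2.det_mul, hm]; simp [M2.det])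
    (by simpa [hc] using ha)) using 1
  ext <;> simp

theorem top_act {g : H → H} (hg : Mor F ⊤ g) :
    ∃ m : M2 K, Mor F ⊤ (act m) ∧ ∃ s, ∀ x, g x = s * act m x * s⁻¹ := by
  obtain ⟨m, s, -, h⟩ := exists_act h2 (MonoidHom.mk' g fun x y => hg.homOn x trivial y trivial)
    fun x y e => hg.injOn trivial trivial e
  refine ⟨m, (hg.comp (mor_conj' F le_rfl (mem_top s)) fun _ _ => trivial).congr fun x _ => ?_, s, h⟩
  rw [show g x = _ from h x]; group

theorem top_sZ {g : H → H} (hg : Mor F ⊤ g) {x : H} (hx : x ∈ sZ) : g x ∈ sZ := by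
  obtain ⟨m, -, s, h⟩ := top_act h2 hg
  rw [h, conj_eq]; simp [hx.1, hx.2]

omit h2 in
theorem ext_top (hF : Sat F p) {f : H → H} (hf : Mor F (sV v) f)
    (hm : ∀ x ∈ sV v, f x ∈ sV v) (hz : ∀ x ∈ sZ, f x ∈ sZ) :
    ∃ g, Mor F ⊤ g ∧ ∀ x ∈ sV v, g x = f x := by
  obtain ⟨α, hα, e⟩ := hf.exists_aut' hm
  obtain ⟨g, h1, h3⟩ := Sp4F.ext_of_chain (L := sZ) (M := ⊥) hF le_top (norm_of (sZ_le v))
    (norm_of le_rfl) (by rw [normalizer_eq_top]) (fun s _ x _ => by simp [conj_eq])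
    (fun s _ x _ hx => by rw [mem_bot, conj_eq]; ext <;> simp [hx.1, hx.2])
    (fun s _ x _ hx => by rw [mem_bot.1 hx]; simp) hα
    (mem_stab_of_mem (sZ_le v) fun x hx => by rw [e x (sZ_le v hx)]; exact hz x hx)
    (Sp4F.mem_stab_bot α)
  exact ⟨g, h1, fun x hx => (h3 x hx).trans (e x hx)⟩

omit h2 in
/-- Radical vectors. -/
def Rad (F : FusionSystem (⊤ : Subgroup H)) (v : K × K) : Prop :=
  v ≠ 0 ∧ ∃ P f c c', Mor F P f ∧ ⟨v.1, v.2, c'⟩ ∈ P ∧ f ⟨v.1, v.2, c'⟩ = ⟨0, 0, c⟩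

theorem Rad.sl (hF : Sat F p) (h : Rad F v) (hm : m.det = 1) : Au F v m := by
  obtain ⟨hv, P, f, c, c', f1, f2, f3⟩ := h
  have f4 := f1.mono (zpowers_le.2 f2)
  have hy : (⟨v.1, v.2, c'⟩ : H) ∈ sV v := by simp [mul_comm]
  have hc : c ≠ 0 := fun e => hv (by
    have := f1.injOn f2 (one_mem _) (by rw [f3, f1.homOn.map_one, e]; rfl)
    exact Prod.ext (congrArg He.a this) (congrArg He.b this))
  obtain ⟨g, g1, g2⟩ := hF.exists_centric_ext f4 (fullyCentralized_of_central le_top (by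
    rw [f1.homOn.im_zpowers f2, f3]
    rintro s - _ ⟨k, rfl⟩
    exact (Commute.zpow_left (show Commute _ s by ext <;> simp [add_comm]) k).eq))
  replace g1 : Mor F (sV v) g := g1.mono (le_sup_of_le_right fun x hx => mem_centralizerIn.2
    ⟨trivial, by
      rintro _ ⟨k, rfl⟩
      refine (Commute.zpow_left (show Commute _ x from ?_) k).eq
      rw [mem_sV] at hx
      ext <;> simp [add_comm]
      linear_combination -2 * hx⟩)
  have g3 : g ⟨v.1, v.2, c'⟩ = ⟨0, 0, c⟩ := (g2 _ (mem_zpowers _)).trans f3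
  obtain ⟨k, k1, k2⟩ := hF.exists_mor_normalizerIn
    (fullyNormalized_of_normal le_top (norm_of (sZ_le v))) (isConj_symm g1.isConj)
  replace k1 : Mor F ⊤ k := k1.mono fun s _ =>
    ⟨trivial, norm_of (sZ_le_of hc (g3 ▸ mem_im_of_mem g hy)) trivial⟩
  have k3 := g1.comp k1 fun _ _ => trivial
  obtain ⟨n, n1, n2⟩ := exists_au hv k3 fun x hx => k2 ▸ mem_im_of_mem k (mem_im_of_mem g hx)
  refine au_sl h2 hv ⟨_, k3, n2⟩ n1 (fun e => ?_) hm
  have k4 := top_sZ h2 k1 (x := ⟨0, 0, c⟩) (by simp)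
  have := n2 (1, c')
  rw [show φ v (1, c') = ⟨v.1, v.2, c'⟩ by simp [φ], g3] at this
  rw [this] at k4
  simp only [φ, M2.ap_fst, e, mul_one, zero_mul, add_zero, mem_sZ, mul_eq_zero] at k4
  have ha : n.a ≠ 0 := fun e' => n1 (by simp [M2.det, e, e'])
  exact hv (Prod.ext (k4.1.resolve_left ha) (k4.2.resolve_left ha))

omit h2 in
theorem Rad.smul (h : Rad F v) {t : K} (ht : t ≠ 0) : Rad F (t • v) := by
  obtain ⟨hv, P, f, c, c', f1, f2, f3⟩ := h
  refine ⟨smul_ne_zero ht hv, P, f, t * c, t * c', f1, ?_, ?_⟩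
  · simpa [pow_val] using pow_mem f2 t.val
  · simpa [pow_val, f3] using f1.homOn.map_pow f2 t.val

/-- The linear data of a saturated fusion system. -/
def dat (hF : Sat F p) : Dat p where
  W := {m | Mor F ⊤ (act m)}
  R := {v | Rad F v}
  one := (mor_id F le_rfl).congr fun x _ => act_one x
  mul hm hn := (hn.comp hm fun _ _ => trivial).congr fun x _ => act_mul _ _ x
  cop {m} hm := by
    obtain ⟨k, h1, s, -, h3⟩ := Sp4F.mor_pow_inner hF hm
    refine ⟨k, h1, M2.ext_ap fun v => ?_⟩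
    have e : ∀ (k : ℕ) (x : H), (act m)^[k] x = act (m ^ k) x := fun k => by
      induction k with
      | zero => simp
      | succ k ih => intro x; rw [Function.iterate_succ_apply, ih, pow_succ, act_mul]
    have := congrArg He.v (h3 ⟨v.1, v.2, 0⟩ trivial)
    rw [e, conj_eq] at this
    rw [M2.one_ap]; exact this
  ne h := h.1
  smul h ht := h.smul ht
  ap {m v} hm h := by
    obtain ⟨hv, P, f, c, c', f1, f2, f3⟩ := h
    obtain ⟨g, g1, g2, -⟩ := (hm.mono (le_top (a := P))).inv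
    have g3 := g2 _ f2
    refine ⟨fun e => hv ?_, _, _, c, m.det * c', g1.comp f1 fun x hx => ?_,
      mem_im_of_mem (act m) f2, (congrArg f g3).trans f3⟩
    · have : (⟨v.1, v.2, 0⟩ : H) = 1 := hm.injOn trivial trivial (by
        rw [Prod.ext_iff] at e
        ext
        exacts [by simpa using e.1, by simpa using e.2, by simp])
      exact Prod.ext (congrArg He.a this) (congrArg He.b this)
    · obtain ⟨y, hy, rfl⟩ := (homOn_hom P (act m)).mem_im.1 hx
      rwa [g2 y hy]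
  tor {v l} h hl := by
    obtain ⟨f, f1, f2⟩ := h.sl h2 hF (m := ⟨l⁻¹, 0, 0, l⟩) (by simp [M2.det, hl])
    obtain ⟨g, g1, g2⟩ := ext_top hF f1 (fun x hx => by
      obtain ⟨w, rfl⟩ := exists_φ h.1 hx
      rw [f2]; exact φ_mem _ _) fun x hx => by
      rw [show x = φ v (0, x.c) by ext <;> simp [φ, hx.1, hx.2], f2]; simp [φ]
    obtain ⟨m, m1, s, m2⟩ := top_act h2 g1
    have e1 := congrArg He.v ((m2 _).symm.trans ((g2 _ (φ_mem v (1, 0))).trans (f2 _)))
    have e2 := congrArg He.c ((m2 _).symm.trans ((g2 _ (φ_mem v (0, 1))).trans (f2 _)))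
    rw [conj_eq] at e1 e2
    exact ⟨m, m1, by simpa [φ, Prod.ext_iff] using e1, by simpa [φ] using e2⟩

theorem ess (hF : Sat F p) {Q : Subgroup H} (hQ : F.IsEssential p Q) : ∃ v, Rad F v ∧ Q = sV v := by
  have two := two_ne h2
  have hc := centralizerIn_le_of_centric hQ.1
  have hz : sZ ≤ Q := fun x hx => hc (mem_centralizerIn.2 ⟨trivial, fun y _ => by
    ext <;> simp [hx.1, hx.2, add_comm]⟩)
  have hl := hF.lt_of_essential hQ
  obtain ⟨α, hα, z, hz', h1⟩ : ∃ α ∈ F.autGroup Q, ∃ z ∈ sZ, ext α z ∉ sZ := by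
    by_contra! h
    exact hl.not_ge fun s _ => Sp4F.mem_of_chain (L := sZ) (M := ⊥) hF hQ
      (fun α hα => mem_stab_of_mem hz (h α hα)) (fun α _ => Sp4F.mem_stab_bot α)
      ⟨trivial, norm_of hz trivial⟩ (fun x _ => by simp [conj_eq])
      (fun x _ hx => by rw [mem_bot, conj_eq]; ext <;> simp [hx.1, hx.2])
      fun x _ hx => by rw [mem_bot.1 hx]; simp
  set y := ext α z
  have hy : y ∈ Q := ext_mem α (hz hz')
  have hv : y.v ≠ 0 := fun e => h1 (v_eq_zero.1 e)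
  have k : ∀ w, φ y.v w ∈ Q := fun w => by
    convert mul_mem (pow_mem hy w.1.val) (hz (x := ⟨0, 0, w.2 - w.1 * y.c⟩) (by simp)) using 1
    rw [pow_val]; ext <;> simp [φ]
  refine ⟨y.v, ⟨hv, Q, _, z.c, y.c, mor_ext le_top (inv_mem hα), hy, (ext_inv_ext α z).trans ?_⟩,
    le_antisymm (fun x hx => by_contra fun n => hl.not_ge fun s _ => ?_) fun x hx => ?_⟩
  · ext <;> simp [hz'.1, hz'.2]
  · obtain ⟨e, he⟩ : ∃ e, e * (x.a * y.b - x.b * y.a) = 1 := ⟨_, inv_mul_cancel₀ (sub_ne_zero.2 n)⟩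
    have := mul_mem (pow_mem hx ((s.a * y.b - s.b * y.a) * e).val)
      (k ((x.a * s.b - x.b * s.a) * e, 0))
    rw [← mul_mem_cancel_left (inv_mem this)]
    refine hz ?_
    rw [pow_val]
    simp only [φ, mem_sZ, mul_a, mul_b, inv_a, inv_b, v_fst, v_snd]
    exact ⟨by linear_combination -s.a * he, by linear_combination -s.b * he⟩
  · obtain ⟨w, e⟩ := exists_φ hv hx
    exact e ▸ k w

theorem mor_of_dat (hF : Sat F p) (hF' : Sat F' p) (hW : ∀ m : M2 K, Mor F ⊤ (act m) → Mor F' ⊤ (act m))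
    (hR : ∀ v, Rad F v → Rad F' v) {P : Subgroup H} {f : H → H} (hf : Mor F P f) : Mor F' P f := by
  have k : ∀ g, Mor F ⊤ g → Mor F' ⊤ g := fun g hg => by
    obtain ⟨m, m1, s, m2⟩ := top_act h2 hg
    exact ((hW m m1).comp (mor_conj F' le_rfl (mem_top s)) fun _ _ => trivial).congr fun x _ => m2 x
  refine hF.mor_of_essential (fun Q hQ α hα => ?_) hf
  rcases hQ with rfl | hQ
  · exact k _ (mor_ext le_rfl hα)
  obtain ⟨v, hv, rfl⟩ := ess h2 hF hQ
  have h1 := mor_ext le_top hα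
  obtain ⟨n, n1, n2⟩ := exists_au hv.1 h1 fun x => ext_mem α
  have k2 : ∀ n, Au F v n → n.b = 0 → Au F' v n := fun n ⟨f, f1, f2⟩ hb => by
    obtain ⟨g, g1, g2⟩ := ext_top hF f1 (fun x hx => by
      obtain ⟨w, rfl⟩ := exists_φ hv.1 hx
      rw [f2]; exact φ_mem _ _) fun x hx => by
      rw [show x = φ v (0, x.c) by ext <;> simp [φ, hx.1, hx.2], f2]; simp [φ, hb]
    exact ⟨g, (k g g1).mono le_top, fun w => (g2 _ (φ_mem _ _)).trans (f2 w)⟩
  obtain ⟨f, f1, f2⟩ : Au F' v n := by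
    obtain ⟨e, he⟩ : ∃ e, e * n.det = 1 := ⟨_, inv_mul_cancel₀ n1⟩
    have e1 : n * ⟨e, 0, 0, 1⟩ * ⟨n.det, 0, 0, 1⟩ = n := by ext <;> simp [mul_assoc, he]
    have hs : (n * ⟨e, 0, 0, 1⟩).det = 1 := by
      simp only [M2.det_mul]; simp only [M2.det] at he ⊢; linear_combination he
    rw [← e1]
    refine ((hR v hv).sl h2 hF' hs).mul hv.1 (k2 _ ?_ rfl)
    simp only [M2.det] at he
    have hs' : (⟨n.d, -n.b, -n.c * e, n.a * e⟩ : M2 K).det = 1 := by
      simp only [M2.det]; linear_combination he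
    convert (hv.sl h2 hF hs').mul hv.1 ⟨_, h1, n2⟩ using 1
    ext <;> simp [M2.det] <;> first | ring1 | linear_combination -he
  refine f1.congr fun x hx => ?_
  obtain ⟨w, rfl⟩ := exists_φ hv.1 hx
  rw [f2, n2]

theorem realizable_of_one (hF : Sat F p) (h : ∀ u v, Rad F u → Rad F v → wd u v = 0) :
    F.IsRealizable p := by
  refine Rk2.realizable_of_constrained hF.pg (Sp4F.constrained_of_unique hF fun E E' hE hE' => ?_)
  obtain ⟨u, hu, rfl⟩ := ess h2 hF hE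
  obtain ⟨v, hv, rfl⟩ := ess h2 hF hE'
  have k : ∀ u v, Rad F u → Rad F v → sV u ≤ sV v := fun u v hu hv x hx => by
    obtain ⟨w, rfl⟩ := exists_φ hu.1 hx
    have := h u v hu hv
    simp only [φ, mem_sV, wd] at this ⊢
    linear_combination w.1 * this
  exact le_antisymm (k u v hu hv) (k v u hv hu)

/-- Data all of whose fusion systems are realizable. -/
def Dat.Rz (D : Dat p) : Prop := ∀ (F : FusionSystem (⊤ : Subgroup H)) (hF : Sat F p),
  (dat h2 hF).Is D → F.IsRealizable p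

theorem rz_dat (hF' : Sat F' p) (hr : F'.IsRealizable p) : (dat h2 hF').Rz h2 := by
  rintro F hF ⟨g, g', h1, h3, h4, h5⟩
  have a1 : ∀ x, act g (act g' x) = x := fun x => by rw [← act_mul, h1, act_one]
  have a2 : ∀ x, act g' (act g x) = x := fun x => by rw [← act_mul, h3, act_one]
  have top : im (act g) (⊤ : Subgroup H) = ⊤ := by
    rw [eq_top_iff]; exact fun x _ => a1 x ▸ mem_im_of_mem _ trivial
  obtain ⟨E, e⟩ := exists_iso F (homOn_hom ⊤ (act g)) (fun x _ y _ h => by rw [← a2 x, h, a2]) top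
  have hE := e.sat hF
  have w : ∀ m : M2 K, Mor E ⊤ (act m) ↔ Mor F' ⊤ (act m) := fun m => by
    have := h4 (g' * m * g)
    rw [show g * (g' * m * g) * g' = (g * g') * m * (g * g') by simp only [mul_assoc], h1, one_mul,
      mul_one] at this
    refine Iff.trans ⟨fun h => e.mor_up le_rfl (h.mono le_top) (fun _ _ => trivial) fun x _ => ?_,
      fun h => (e.mor_down h fun x _ => ?_).mono top.ge⟩ this <;> simp only [act_mul, a1, a2]
  have r : ∀ v, Rad E v ↔ Rad F' v := fun v => by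
    have := h5 (g'.ap v)
    rw [← M2.mul_ap, h1, M2.one_ap] at this
    refine Iff.trans ⟨?_, ?_⟩ this
    · rintro ⟨hv, P, f, c, c', f1, f2, f3⟩
      obtain ⟨P, hP, rfl⟩ := e.exists_im f1.le
      obtain ⟨k, k1, k2⟩ := e.up hP f1
      rw [← a1 ⟨_, _, _⟩, e.mem_im_iff hP trivial] at f2
      refine ⟨fun h => hv ?_, P, k, g'.det * c, g'.det * c', k1, f2, ?_⟩
      · rw [← M2.one_ap v, ← h1, M2.mul_ap, h]; ext <;> simp
      · have := congrArg (act g') (k2 _ f2)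
        rw [a1, a2, f3] at this
        exact this.symm.trans (by ext <;> simp)
    · rintro ⟨hv, P, f, c, c', f1, f2, f3⟩
      obtain ⟨k, k1, k2⟩ := e.down f1
      have e1 : act g ⟨(g'.ap v).1, (g'.ap v).2, c'⟩ = ⟨v.1, v.2, g.det * c'⟩ := by
        have := congrArg He.v (a1 ⟨v.1, v.2, 0⟩)
        rw [Prod.ext_iff] at this
        exact He.ext this.1 this.2 rfl
      refine ⟨fun h => hv ?_, _, k, g.det * c, g.det * c', k1, e1 ▸ mem_im_of_mem _ f2, ?_⟩
      · rw [h]; ext <;> simp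
      · rw [← e1, k2 _ f2, f3]; ext <;> simp
  obtain rfl : E = F' := ext_mor fun P f =>
    ⟨mor_of_dat h2 hE hF' (fun m => (w m).1) fun v => (r v).1,
      mor_of_dat h2 hF' hE (fun m => (w m).2) fun v => (r v).2⟩
  exact Rk2.realizable_of_iso e hr

/-- The linear data of a finite group. -/
theorem exists_dat {G : Type*} [Group G] [Finite G] {ι : H →* G} (hi : Function.Injective ι)
    (ho : ¬ p ^ 4 ∣ Nat.card G) : ∃ D : Dat p, D.Rz h2 ∧
      (∀ m, m ∈ D.W ↔ ∃ g : G, ∀ x, ι (act m x) = g * ι x * g⁻¹) ∧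
      ∀ v, v ∈ D.R ↔ v ≠ 0 ∧ ∃ (c c' : K) (g : G), ι ⟨0, 0, c⟩ = g * ι ⟨v.1, v.2, c'⟩ * g⁻¹ := by
  let q := (MonoidHom.ofInjective hi).symm
  have hS : SylGrp (groupFusionSystem ι.range) ⊤ p := ⟨grp_group _,
    He.isPGroup.of_equiv q.symm, fun h => ho (by
      rw [relIndex_top_right] at h
      rw [← ι.range.card_mul_index, Nat.card_congr q.toEquiv, card', pow_succ]
      exact mul_dvd_mul_left _ h)⟩
  obtain ⟨F, e⟩ := exists_iso (groupFusionSystem ι.range) (homOn_fn q.toMonoidHom)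
    (injOn_fn q.injective) (S' := ⊤) (by rw [im_fn, MonoidHom.range_eq_top.2 q.surjective])
  obtain ⟨j, e', h1, -⟩ := e.symm
  have hj : ∀ x, j x = ι x := fun x => by
    rw [← h1 (ι x) ⟨x, rfl⟩, fn_apply _ (MonoidHom.mem_range.2 ⟨x, rfl⟩)]
    exact congrArg j (q.symm.symm_apply_apply x).symm
  have k : ∀ P f, Mor F P f ↔ ∃ g : G, ∀ x ∈ P, ι (f x) = g * ι x * g⁻¹ := fun P f => by
    simpa only [hj] using e'.mor_iff_conj hS.toGrp le_top fun _ _ => trivial
  refine ⟨_, rz_dat h2 (e.sat hS.sat) (Rk2.Real.realizable (⟨_, _, _, hS, e'⟩ : Rk2.Real F p ⊤)),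
    fun m => (k _ _).trans (by simp), fun v => and_congr_right fun hv => ⟨?_, ?_⟩⟩
  · rintro ⟨P, f, c, c', f1, f2, f3⟩
    obtain ⟨g, hg⟩ := (k _ _).1 f1
    exact ⟨c, c', g, f3 ▸ hg _ f2⟩
  · rintro ⟨c, c', g, hg⟩
    have : ∀ x ∈ zpowers (⟨v.1, v.2, c'⟩ : H), ∃ y, ι y = g * ι x * g⁻¹ := by
      rintro _ ⟨i, rfl⟩
      exact ⟨⟨0, 0, c⟩ ^ i, by simp only [map_zpow, hg, conj_zpow]⟩
    choose! f hf using this
    exact ⟨_, f, c, c', (k _ _).2 ⟨g, hf⟩, mem_zpowers _,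
      hi ((hf _ (mem_zpowers _)).trans hg.symm)⟩

end Cfsg.Lib.RV
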