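import Cfsg.Agent.Lib.RV.P13
import Cfsg.Agent.Lib.RV.Co13
import Cfsg.Agent.Lib.MT.Inv
import Cfsg.Agent.Lib.MT.Mk
import Cfsg.Agent.S1705

/-!
# The `13`-fusion system of the Monster has three radical lines
-/

set_option autoImplicit false

namespace Cfsg.Lib.Griess.MT.R13

open Subgroup Cfsg.Lib.Leech Cfsg.Lib.Mon Cfsg.Lib.ES Cfsg.Lib.RV

section

variable [MQ] {x : CZ}

theorem zcases {u : Aut} (h : u ∈ zpowers zA) : u = 1 ∨ u = zA := by
  obtain ⟨k, rfl⟩ := h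
  have e : zA ^ (2 : ℤ) = 1 := by rw [zpow_two, zA_mul_self]
  rcases Int.emod_two_eq_zero_or_one k with a | a <;> simp only [zpow_eq_zpow_emod k e, a] <;> simp

theorem cq (hx : ∀ v : L2, rhoC x • v = v → v = 0) {u : CZ} (h : rhoC u = 1) (c : Commute u x) :
    (u : Aut) = 1 ∨ (u : Aut) = zA := by
  have k := xd.π_conj x u (rhoC_eq_one.1 h)
  rw [← coe_mul, ← c.eq, coe_mul, mul_inv_cancel_right] at k
  exact zcases ((xd.π_eq_zero _ (rhoC_eq_one.1 h)).1 (hx _ k.symm))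

theorem lift (hx : ∀ v : L2, rhoC x • v = v → v = 0) (x13 : x ^ 13 = 1) {g : Spor.Co1} {y : CZ} (y13 : y ^ 13 = 1)
    (h : g * rhoC y * g⁻¹ = rhoC x) : ∃ k : CZ, rhoC k = g ∧ k * y * k⁻¹ = x := by
  obtain ⟨g, rfl⟩ := xd.surj g
  have := finite_L2
  have hr : ((g * y * g⁻¹ * x⁻¹ : CZ) : Aut) ∈ qV.range := rhoC_eq_one.1 (by simp only [map_mul, map_inv, h, mul_inv_cancel])
  obtain ⟨w, e⟩ := Finite.surjective_of_injective (f := fun w : L2 => rhoC x • w - w) (fun v w e => by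
    refine sub_eq_zero.1 (hx _ ?_)
    rw [smul_sub, sub_eq_sub_iff_sub_eq_sub]; exact e) (xd.π (g * y * g⁻¹ * x⁻¹ : CZ))
  obtain ⟨q, q1, rfl⟩ := xd.π_surj w
  let q' : CZ := ⟨q, xd.lg.cent q1⟩
  have q2 : rhoC q' = 1 := rhoC_eq_one.2 q1
  refine ⟨q' * g, by rw [map_mul, q2, one_mul], ?_⟩
  have s : ((q' * g * y * (q' * g)⁻¹ * x⁻¹ : CZ) : Aut) = q * (g * y * g⁻¹ * x⁻¹ : CZ) * (x * q * (x : Aut)⁻¹)⁻¹ := by
    simp only [coe_mul, coe_inv, q']; group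
  have s1 := zcases ((xd.π_eq_zero _ (s ▸ mul_mem (mul_mem q1 hr) (inv_mem (xd.conj_mem x q1)))).1 (by
    rw [s, xd.π_mul _ (mul_mem q1 hr) _ (inv_mem (xd.conj_mem x q1)), xd.π_mul _ q1 _ hr, xd.π_inv (xd.conj_mem x q1),
      xd.π_conj x _ q1, ← e]
    simp))
  have s2 : (q' * g * y * (q' * g)⁻¹) ^ 13 = 1 := by rw [conj_pow, y13, mul_one, mul_inv_cancel]
  generalize q' * g * y * (q' * g)⁻¹ = y at s1 s2
  rcases s1 with a | a
  · exact mul_inv_eq_one.1 (Subtype.ext a)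
  · have b := congrArg Subtype.val s2
    rw [coe_mul, coe_inv, mul_inv_eq_iff_eq_mul] at a
    rw [coe_pow, a, Commute.mul_pow (mem_CZc.1 x.2).symm, ← coe_pow, x13, coe_one, mul_one,
      show 13 = 2 * 6 + 1 from rfl, pow_succ, pow_mul, sq, zA_mul_self, one_pow, one_mul] at b
    exact absurd b xd.lg.ne_one

variable [MN]

theorem exists_lh (h3 : 13 ^ 3 ∣ Nat.card Aut) : ∃ x a b t : Aut, LH 13 zA x a b t := by
  obtain ⟨x, a, b, t, ox, fx, oa, ob, oab, ot, ax, bx, ta, tb, tx⟩ := exists_co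
  have x1 : x ^ 13 = 1 := ox ▸ pow_orderOf_eq_one x
  obtain ⟨x, rfl, x13⟩ : ∃ y : CZ, rhoC y = x ∧ y ^ 13 = 1 := by
    obtain ⟨y, rfl⟩ := xd.surj x
    obtain ⟨q, e⟩ := rhoC_eq_one.1 ((map_pow _ _ _).trans x1)
    refine ⟨y ^ 40, by rw [map_pow, show 40 = 13 * 3 + 1 from rfl, pow_succ, pow_mul, x1, one_pow, one_mul], Subtype.ext ?_⟩
    rw [← pow_mul, show 40 * 13 = 13 * 4 * 10 from rfl, pow_mul, pow_mul, coe_pow, coe_pow, ← e, qV_pow_four, one_pow, coe_one]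
  obtain ⟨a, rfl, ax'⟩ := lift fx x13 x13 (g := a) (mul_inv_eq_iff_eq_mul.2 ax)
  obtain ⟨b, rfl, bx'⟩ := lift fx x13 x13 (g := b) (mul_inv_eq_iff_eq_mul.2 bx)
  obtain ⟨t, rfl, tx'⟩ := lift (x := x⁻¹) (fun v e => fx v (by rwa [map_inv, inv_smul_eq_iff, eq_comm] at e))
    (by rw [inv_pow, x13, inv_one]) x13 (g := t) (tx.trans (map_inv _ _).symm)
  replace ax' : Commute a x := mul_inv_eq_iff_eq_mul.1 ax'
  replace bx' : Commute b x := mul_inv_eq_iff_eq_mul.1 bx'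
  have hu : ∀ u : CZ, Commute u x → (u : Aut) * u = 1 → rhoC u = 1 := fun u c e => by_contra fun k => by
    obtain ⟨g, g1, g2⟩ := neg_of_comm ox (orderOf_eq_prime (by
      rw [sq, ← map_mul, show u * u = 1 from Subtype.ext e, map_one]) k) (c.symm.map rhoC)
    exact not_neg e g1 g2
  have sq' : ∀ u : CZ, Commute u x → orderOf (rhoC u) = 2 → (u : Aut) * u = zA := fun u c o =>
    (cq fx (u := u * u) (by rw [map_mul, ← sq, ← o, pow_orderOf_eq_one]) (c.mul_left c)).resolve_left fun e => by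
      rw [hu u c e, orderOf_one] at o; omega
  have a2 := sq' a ax' oa
  have b2 := sq' b bx' ob
  have ab2 := sq' (a * b) (ax'.mul_left bx') (map_mul rhoC a b ▸ oab)
  have ab : (b : Aut) * a * (b : Aut)⁻¹ = (a : Aut)⁻¹ := by
    calc _ = (a : Aut)⁻¹ * (a * b * (a * b)) * ((b : Aut) * b)⁻¹ := by group
      _ = _ := by rw [show (a : Aut) * b * (a * b) = zA from ab2, b2, mul_inv_cancel_right]
  have ba : (a : Aut) * b * (a : Aut)⁻¹ = (b : Aut)⁻¹ := by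
    calc _ = (b : Aut)⁻¹ * (b * a * (b : Aut)⁻¹) * (b * b) * (a : Aut)⁻¹ := by group
      _ = _ := by rw [ab, b2, ← a2]; group
  have ti : t * x⁻¹ * t⁻¹ = x := by rw [← conj_inv, tx', inv_inv]
  have pm : ∀ u : CZ, Commute u x → (u : Aut) * u = zA → Commute (rhoC t) (rhoC u) →
      (t : Aut) * u * (t : Aut)⁻¹ = u ∨ (t : Aut) * u * (t : Aut)⁻¹ = (u : Aut)⁻¹ := fun u c e k => by
    refine (cq fx (u := t * u * t⁻¹ * u⁻¹) (by simp [k.eq]) (Commute.mul_left (ti ▸ c.inv_right.conj t) c.inv_left)).imp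
      mul_inv_eq_one.1 fun l => (mul_inv_eq_iff_eq_mul.1 l).trans (eq_inv_of_mul_eq_one_left ?_)
    rw [mul_assoc, e, zA_mul_self]
  obtain ⟨s, s1, s2, s3, s4⟩ : ∃ s : CZ, s * x * s⁻¹ = x⁻¹ ∧ rhoC (s * s) = 1 ∧ (s : Aut) * a * (s : Aut)⁻¹ = a ∧
      (s : Aut) * b * (s : Aut)⁻¹ = b := by
    have k : ∀ u : CZ, Commute u x → orderOf (rhoC u) = 2 → Commute (rhoC t) (rhoC u) →
        t * u * x * (t * u)⁻¹ = x⁻¹ ∧ rhoC (t * u * (t * u)) = 1 := fun u c o e =>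
      ⟨by rw [← tx', mul_assoc t, c.eq]; group, by
        rw [map_mul, map_mul, e.symm.mul_mul_mul_comm, ← sq, ← sq, ← ot, pow_orderOf_eq_one, ot, ← o, pow_orderOf_eq_one, mul_one]⟩
    have c : ∀ {u v w : Aut}, u * v * u⁻¹ = w → (t : Aut) * u * v * ((t : Aut) * u)⁻¹ = t * w * (t : Aut)⁻¹ :=
      fun e => by rw [← e]; group
    rcases pm a ax' a2 ta with e | e <;> rcases pm b bx' b2 tb with f | f
    · exact ⟨t, tx', by rw [map_mul, ← sq, ← ot, pow_orderOf_eq_one], e, f⟩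
    · exact ⟨t * a, (k a ax' oa ta).1, (k a ax' oa ta).2, (c (mul_inv_cancel_right _ _)).trans e,
        (c ba).trans (by rw [← conj_inv, f, inv_inv])⟩
    · exact ⟨t * b, (k b bx' ob tb).1, (k b bx' ob tb).2, (c ab).trans (by rw [← conj_inv, e, inv_inv]),
        (c (mul_inv_cancel_right _ _)).trans f⟩
    · have := k (a * b) (ax'.mul_left bx') (map_mul rhoC a b ▸ oab) (map_mul rhoC a b ▸ ta.mul_right tb)
      refine ⟨t * (a * b), this.1, this.2, (c (w := a⁻¹) ?_).trans (by rw [← conj_inv, e, inv_inv]),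
        (c (w := b⁻¹) ?_).trans (by rw [← conj_inv, f, inv_inv])⟩
      · calc _ = (a : Aut) * (b * a * (b : Aut)⁻¹) * (a : Aut)⁻¹ := by simp only [coe_mul]; group
          _ = _ := by rw [ab]; group
      · rw [← ba]; simp only [coe_mul]; group
  have hC : Nat.card CZ = Nat.card Spor.Co1 * Nat.card qV.range := by
    rw [card_eq_card_quotient_mul_card_subgroup rhoC.ker, Nat.card_congr (QuotientGroup.quotientKerEquivOfSurjective _ xd.surj).toEquiv,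
      show rhoC.ker = qV.range.subgroupOf CZ from Subgroup.ext fun _ => rhoC_eq_one, Core.card_subgroupOf_of_le xd.lg.cent]
  refine ⟨x, a, b, s, by decide, h3, xd.lg.ord, by rw [hC, card_Co1, card_range_qV]; decide,
    orderOf_eq_prime (congrArg Subtype.val x13) fun e => ?_, mem_CZc.1 x.2, fun u c1 c2 e => ?_, fun u c1 c2 e => by_contra fun k => ?_,
    congrArg Subtype.val ax'.eq, congrArg Subtype.val bx'.eq, congrArg Subtype.val s1, a2, b2, ab, mul_inv_eq_iff_eq_mul.1 s3,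
    mul_inv_eq_iff_eq_mul.1 s4, cq fx s2 (mul_inv_eq_iff_eq_mul.1 ?_)⟩
  · rw [show x = 1 from Subtype.ext e, map_one, orderOf_one] at ox; omega
  · exact cq fx (u := ⟨u, mem_CZc.2 c1⟩) (hu _ (Subtype.ext c2.eq) e) (Subtype.ext c2.eq)
  · have c3 : rhoC ⟨u, mem_CZc.2 c1⟩ * rhoC x * (rhoC ⟨u, mem_CZc.2 c1⟩)⁻¹ = (rhoC x)⁻¹ := by
      rw [← map_inv, ← map_mul, ← map_mul, ← map_inv]; exact congrArg _ (Subtype.ext c2)
    obtain ⟨c, c4, r, O, o8, l⟩ := exists_yq (mem_CZc.2 c1) e (fun m => by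
      rw [(rhoC_eq_one (g := ⟨u, mem_CZc.2 c1⟩)).2 m, one_mul, inv_one, mul_one, eq_inv_iff_mul_eq_one, ← sq] at c3
      exact absurd (ox ▸ orderOf_dvd_of_pow_eq_one c3) (by decide)) k
    refine not_zz fx c3 ((CoT.conj_z_sg (support_mem_GC O.2) (.inl o8)).trans (isConj_iff.2 ⟨(rhoC ⟨c, c4⟩)⁻¹, ?_⟩))
    have : CoT.sg (support₂ (O : W)) = rhoC ⟨_, (ind_yq r O).1⟩ := by
      rw [CoT.sg, CoT.sg0_eq (support_mem_GC O.2)]; exact (ind_yq r O).2.symm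
    rw [this, ← map_inv, ← map_inv, ← map_mul, ← map_mul]
    exact congrArg _ (Subtype.ext (by simp [← l, mul_assoc]))
  · calc s * s * x * (s * s)⁻¹ = s * (s * x * s⁻¹) * s⁻¹ := by group
      _ = x := by rw [s1, ← conj_inv, s1, inv_inv]

end

theorem _root_.Cfsg.Lib.RV.three_thirteen [Fact (Nat.Prime 13)] (h2 : 13 ≠ 2) : ∃ D : Dat 13, D.Rz h2 ∧ D.Three := by
  obtain ⟨z, g, R, D, hc, hs, hne⟩ := M3.exists_xdM
  have hM := Cfsg.Agent.S1705.result.2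
  have : Finite Spor.Monster := Nat.finite_of_card_ne_zero (by rw [hM]; decide)
  have h : IsConj z (g * z * g⁻¹) := isConj_iff.2 ⟨g, rfl⟩
  obtain ⟨D, e⟩ := exists_base D hc hs h hne
  obtain ⟨f, f1, rfl, rfl, f3, f2⟩ := exists_qV D hs (e.trans om_eq.symm)
  let _ : MQ := ⟨Spor.Monster, f, f1, D, f2⟩
  obtain ⟨_⟩ := nonempty_MN (h.trans (by rw [← f3]; rfl))
  obtain ⟨x, a, b, t, k⟩ := exists_lh (show _ ∣ Nat.card Spor.Monster by rw [hM]; decide)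
  exact k.three (show ¬ _ ∣ Nat.card Spor.Monster by rw [hM]; decide)

end Cfsg.Lib.Griess.MT.R13
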