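import Cfsg.Agent.Lib.RV.Fus

/-!
# Three radical lines from a finite group
-/

set_option autoImplicit false

namespace Cfsg.Lib.RV

open He Subgroup

theorem exists_three {p : ℕ} [Fact p.Prime] (h2 : p ≠ 2) {G : Type*} [Group G] [Finite G]
    (ho : ¬ p ^ 4 ∣ Nat.card G) {x y z : G} (hx : x ^ p = 1) (hy : y ^ p = 1) (hz : z ^ p = 1)
    (e : x * y = z * y * x) (cx : Commute x z) (cy : Commute y z) (z1 : z ≠ 1) {a b c : ℕ}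
    (ha : (a : ZMod p) ≠ 0) (hb : (b : ZMod p) ≠ 0) (h1 : ∃ g : G, ∃ k : ℕ, g * x * g⁻¹ = z ^ k)
    (h3 : ∃ g : G, ∃ k : ℕ, g * y * g⁻¹ = z ^ k)
    (h4 : ∃ g : G, ∃ k : ℕ, g * (x ^ a * y ^ b * z ^ c) * g⁻¹ = z ^ k) :
    ∃ D : Dat p, D.Rz h2 ∧ D.Three := by
  obtain ⟨ι, i1, i2, i3⟩ := exists_hom h2 hx hy hz e cx cy
  obtain ⟨D, d1, -, d3⟩ := exists_dat h2 (injective_of h2 (i3 ▸ z1)) ho
  have k : ∀ w : He (ZMod p), w.v ≠ 0 → (∃ g : G, ∃ k : ℕ, g * ι w * g⁻¹ = z ^ k) → w.v ∈ D.R :=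
    fun w hw ⟨g, k, hk⟩ => (d3 _).2 ⟨hw, k * 2, w.c, g, by
      rw [show (⟨w.v.1, w.v.2, w.c⟩ : He (ZMod p)) = w from rfl, hk, ← i3, ← map_pow, pow_eq]; simp⟩
  refine ⟨D, d1, _, k ⟨1, 0, 0⟩ (by simp [v_eq_zero]) (i1 ▸ h1), _,
    k ⟨0, 1, 0⟩ (by simp [v_eq_zero]) (i2 ▸ h3), _,
    k (⟨1, 0, 0⟩ ^ a * ⟨0, 1, 0⟩ ^ b * ⟨0, 0, 2⟩ ^ c) (by simp [v_eq_zero, pow_eq, ha])
      (by simpa only [map_mul, map_pow, i1, i2, i3] using h4), ?_, ?_, ?_⟩ <;>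
    simp [wd, pow_eq, ha, hb]

end Cfsg.Lib.RV
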